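import Groth.Agent.EtaleBase.Stalks
import Groth.Agent.MiscGeom97.ClosedDescent
import Groth.Agent.Pi1Quot.SigmaFinite
import Mathlib.AlgebraicGeometry.Sites.AffineEtale
import Mathlib.AlgebraicGeometry.Sites.Fpqc
import Mathlib.AlgebraicGeometry.Morphisms.LocalFlatDescent
import Mathlib.CategoryTheory.Sites.SubcanonicalOver

/-!
# Generalities for the representability of finite locally constant sheaves on the small etale site
-/

set_option autoImplicit false
set_option backward.isDefEq.respectTransparency false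
set_option linter.style.haveILetI false

universe u

open CategoryTheory CategoryTheory.Limits AlgebraicGeometry Opposite

namespace Groth.EtFlcRep

variable {S : Scheme.{u}}

theorem etaleTopology_le_fppf : Scheme.etaleTopology.{u} ≤ Scheme.fppfTopology.{u} := by
  apply Precoverage.toGrothendieck_mono
  exact Scheme.precoverage_mono fun X Y f hf => by
    haveI : Etale f := hf
    exact ⟨inferInstance, inferInstance⟩

/-- The fibre product of two etale schemes over a third, as an etale scheme. -/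
noncomputable def fib {A B C : S.Etale} (f : A ⟶ C) (g : B ⟶ C) : S.Etale :=
  Scheme.Etale.mk (pullback.fst f.left g.left ≫ A.hom)

/-- The first projection. -/
noncomputable def fibFst {A B C : S.Etale} (f : A ⟶ C) (g : B ⟶ C) : fib f g ⟶ A :=
  MorphismProperty.Over.homMk (pullback.fst f.left g.left) rfl

/-- The second projection. -/
noncomputable def fibSnd {A B C : S.Etale} (f : A ⟶ C) (g : B ⟶ C) : fib f g ⟶ B :=
  MorphismProperty.Over.homMk (pullback.snd f.left g.left) (by
    show pullback.snd f.left g.left ≫ B.hom = pullback.fst f.left g.left ≫ A.hom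
    rw [← MorphismProperty.Over.w g, ← pullback.condition_assoc, MorphismProperty.Over.w f])

theorem fib_condition {A B C : S.Etale} (f : A ⟶ C) (g : B ⟶ C) :
    fibFst f g ≫ f = fibSnd f g ≫ g :=
  MorphismProperty.Over.Hom.ext pullback.condition

instance subcanonical_smallEtaleTopology : S.smallEtaleTopology.Subcanonical := by
  have : Scheme.etaleTopology.{u}.Subcanonical :=
    GrothendieckTopology.Subcanonical.of_le etaleTopology_le_fppf
  refine GrothendieckTopology.Subcanonical.of_isSheaf_yoneda_obj _ fun U T R hR x hx => ?_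
  let G := MorphismProperty.Over.forget @Etale ⊤ S
  let X : (Σ' (W : S.Etale) (g : W ⟶ T), R g) → Over S := fun i => G.obj i.1
  let k : ∀ i, X i ⟶ G.obj T := fun i => G.map i.2.1
  have hK : Sieve.ofArrows X k ∈ (S.overGrothendieckTopology @Etale) (G.obj T) := by
    refine GrothendieckTopology.superset_covering _ ?_
      ((Functor.mem_restrictedTopology_iff (G := G)).1 hR)
    rintro Z f ⟨W, g, h, hg, rfl⟩
    exact (Sieve.ofArrows X k).downward_closed (Sieve.ofArrows_mk X k ⟨W, g, hg⟩) h
  have hs := (GrothendieckTopology.Subcanonical.isSheaf_of_isRepresentable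
    (J := S.overGrothendieckTopology @Etale) (yoneda.obj (G.obj U))) _ hK
  rw [Sieve.ofArrows, ← Presieve.isSheafFor_iff_generate, Presieve.isSheafFor_arrows_iff] at hs
  obtain ⟨y, hy, huniq⟩ := hs (fun i => G.map (x i.2.1 i.2.2)) fun i j Z gi gj e => by
    let l : Z ⟶ G.obj (fib i.2.1 j.2.1) :=
      Over.homMk (pullback.lift gi.left gj.left (congrArg CommaMorphism.left e)) (by
        refine ((pullback.lift_fst_assoc _ _ _ _).trans ?_)
        exact Over.w gi)
    have h1 : l ≫ G.map (fibFst i.2.1 j.2.1) = gi := Over.OverMorphism.ext (pullback.lift_fst _ _ _)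
    have h2 : l ≫ G.map (fibSnd i.2.1 j.2.1) = gj := Over.OverMorphism.ext (pullback.lift_snd _ _ _)
    have h3 : fibFst i.2.1 j.2.1 ≫ x i.2.1 i.2.2 = fibSnd i.2.1 j.2.1 ≫ x j.2.1 j.2.2 :=
      hx _ _ i.2.2 j.2.2 (fib_condition _ _)
    have h4 := congrArg (fun φ => l ≫ G.map φ) h3
    simp only [Functor.map_comp, reassoc_of% h1, reassoc_of% h2] at h4
    exact h4
  refine ⟨G.preimage y, fun W g hg => G.map_injective ?_, fun z hz => ?_⟩
  · show G.map (g ≫ G.preimage y) = _
    rw [Functor.map_comp, G.map_preimage]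
    exact hy ⟨W, g, hg⟩
  · apply G.map_injective
    rw [G.map_preimage]
    exact huniq _ fun i => (G.map_comp _ _).symm.trans (congrArg G.map (hz i.2.1 i.2.2))

/-- The presheaf of morphisms to an etale scheme, one universe up. -/
abbrev rep (U : S.Etale) : S.Etaleᵒᵖ ⥤ Type (u + 1) := yoneda.obj U ⋙ uliftFunctor.{u + 1, u}

theorem isSheaf_rep (U : S.Etale) : Presheaf.IsSheaf S.smallEtaleTopology (rep U) :=
  ((GrothendieckTopology.uliftYoneda.{u + 1} S.smallEtaleTopology).obj U).property

variable {F : S.Etaleᵒᵖ ⥤ Type (u + 1)} (hF : Presheaf.IsSheaf S.smallEtaleTopology F)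

include hF in
/-- Sections which agree etale locally around every point agree. -/
theorem sep {T : S.Etale} (x y : F.obj (op T))
    (h : ∀ t : T.left, ∃ (W : S.Etale) (k : W ⟶ T) (w : W.left),
      k.left.base w = t ∧ F.map k.op x = F.map k.op y) : x = y := by
  let R : Sieve T :=
    { arrows := fun W k => F.map k.op x = F.map k.op y
      downward_closed := fun {W W'} k (hk : F.map k.op x = F.map k.op y) g => by
        show F.map (g ≫ k).op x = F.map (g ≫ k).op y
        rw [op_comp, Functor.map_comp_apply, Functor.map_comp_apply, hk] }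
  have hR : R ∈ S.smallEtaleTopology T := by
    rw [EtaleBase.mem_topology_iff]
    intro t
    obtain ⟨W, k, w, hw, he⟩ := h t
    exact ⟨W, k, w, he, hw⟩
  exact (((isSheaf_iff_isSheaf_of_type _ _).1 hF).isSeparated R hR).ext fun W k hk => hk

include hF in
theorem subsingleton_of_isEmpty (T : S.Etale) [IsEmpty T.left] : Subsingleton (F.obj (op T)) :=
  ⟨fun x y => sep hF x y fun t => isEmptyElim t⟩

include hF in
/-- Sections glue along a jointly surjective family. -/
theorem glue {T : S.Etale} {κ : Type u} (W : κ → S.Etale) (k : ∀ i, W i ⟶ T)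
    (hk : ∀ t : T.left, ∃ (i : κ) (w : (W i).left), (k i).left.base w = t)
    (x : ∀ i, F.obj (op (W i)))
    (hx : ∀ (i j : κ) (Z : S.Etale) (gi : Z ⟶ W i) (gj : Z ⟶ W j),
      gi ≫ k i = gj ≫ k j → F.map gi.op (x i) = F.map gj.op (x j)) :
    ∃ y : F.obj (op T), ∀ i, F.map (k i).op y = x i := by
  have hR : Sieve.ofArrows W k ∈ S.smallEtaleTopology T := by
    rw [EtaleBase.mem_topology_iff]
    intro t
    obtain ⟨i, w, hw⟩ := hk t
    exact ⟨W i, k i, w, Sieve.ofArrows_mk W k i, hw⟩
  have h := ((isSheaf_iff_isSheaf_of_type _ _).1 hF) _ hR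
  rw [Sieve.ofArrows, ← Presieve.isSheafFor_iff_generate, Presieve.isSheafFor_arrows_iff] at h
  obtain ⟨y, hy, -⟩ := h x hx
  exact ⟨y, hy⟩

omit hF in
/-- Morphisms which agree etale locally around every point agree. -/
theorem hom_ext_local {T U : S.Etale} (a b : T ⟶ U)
    (h : ∀ t : T.left, ∃ (W : S.Etale) (k : W ⟶ T) (w : W.left),
      k.left.base w = t ∧ k ≫ a = k ≫ b) : a = b := by
  refine congrArg ULift.down (sep (isSheaf_rep U) (ULift.up a) (ULift.up b) fun t => ?_)
  obtain ⟨W, k, w, hw, he⟩ := h t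
  exact ⟨W, k, w, hw, congrArg ULift.up he⟩

/-- An open of an etale scheme, as an etale scheme. -/
noncomputable def opn (T : S.Etale) (O : T.left.Opens) : S.Etale := Scheme.Etale.mk (O.ι ≫ T.hom)

/-- Its inclusion. -/
noncomputable def opnHom (T : S.Etale) (O : T.left.Opens) : opn T O ⟶ T :=
  MorphismProperty.Over.homMk O.ι rfl

/-- A morphism with image in the image of an open immersion lifts. -/
theorem exists_lift {T U U' : S.Etale} (j : U ⟶ U') [IsOpenImmersion j.left] (a : T ⟶ U')
    (h : Set.range a.left.base ⊆ Set.range j.left.base) : ∃ b : T ⟶ U, b ≫ j = a := by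
  refine ⟨MorphismProperty.Over.homMk (IsOpenImmersion.lift j.left a.left h) ?_, ?_⟩
  · rw [← MorphismProperty.Over.w j, ← Category.assoc, IsOpenImmersion.lift_fac,
      MorphismProperty.Over.w a]
  · exact MorphismProperty.Over.Hom.ext (IsOpenImmersion.lift_fac _ _ _)

/-- A property local on the target descends along covers. -/
theorem of_isPullback_isCover (P : MorphismProperty Scheme.{u}) [IsZariskiLocalAtTarget P]
    [P.IsStableUnderBaseChange] [MorphismProperty.DescendsAlong P (@Surjective ⊓ @Flat ⊓ @QuasiCompact : MorphismProperty Scheme.{u})]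
    {X Y Z B : Scheme.{u}} {q : Y ⟶ Z} {i : Y ⟶ X} {j : Z ⟶ B} {p : X ⟶ B}
    [Groth.Pi1Desc.IsCover p] (sq : IsPullback q i j p) (hi : P i) : P j := by
  refine IsZariskiLocalAtTarget.of_iSup_eq_top (P := P) (fun O : B.affineOpens => O.1)
    (iSup_affineOpens_eq_top B) fun O => ?_
  obtain ⟨X', f, _, hfl, hsu, hqc⟩ := Groth.Pi1Desc.exists_affine_over p O.2
  refine MorphismProperty.of_pullback_fst_of_descendsAlong (Q := (@Surjective ⊓ @Flat ⊓ @QuasiCompact :
    MorphismProperty Scheme.{u})) (f := f ≫ p ∣_ O.1) (g := j ∣_ O.1) ⟨⟨hsu, hfl⟩, hqc⟩ ?_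
  let k : X' ⟶ X := f ≫ (p ⁻¹ᵁ O.1).ι
  have hk : (f ≫ p ∣_ O.1) ≫ O.1.ι = k ≫ p := by simp [k]
  have big := (IsPullback.of_hasPullback (f ≫ p ∣_ O.1) (j ∣_ O.1)).flip.paste_horiz
    (isPullback_morphismRestrict j O.1).flip
  rw [hk] at big
  have hw : (pullback.snd (f ≫ p ∣_ O.1) (j ∣_ O.1) ≫ (j ⁻¹ᵁ O.1).ι) ≫ j =
      (pullback.fst (f ≫ p ∣_ O.1) (j ∣_ O.1) ≫ k) ≫ p := by
    rw [big.w]; simp [k]
  have top := IsPullback.of_right (h₁₁ := sq.lift _ _ hw) (h₁₂ := q) (v₁₂ := i) (h₂₁ := k) (h₂₂ := p)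
    (v₁₁ := pullback.fst (f ≫ p ∣_ O.1) (j ∣_ O.1)) (v₁₃ := j)
    (by rw [sq.lift_fst]; exact big) (sq.lift_snd _ _ _) sq
  exact MorphismProperty.of_isPullback top hi

section Sigma

variable {ι : Type u} {A B : ι → Scheme.{u}} (f : ∀ i, A i ⟶ B i)

theorem range_sigmaι_preimage (i : ι) :
    Set.range (Sigma.ι A i) = (Limits.Sigma.map f) ⁻¹' Set.range (Sigma.ι B i) := by
  ext x
  obtain ⟨⟨j, a⟩, rfl⟩ := (sigmaMk A).surjective x
  rw [sigmaMk_mk, Set.mem_preimage, ← Scheme.Hom.comp_apply, Sigma.ι_map, Scheme.Hom.comp_apply]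
  constructor
  · rintro ⟨a', ha'⟩
    obtain ⟨rfl, -⟩ := Sigma.mk.inj ((sigmaι_eq_iff _ _ _ _ _).1 ha')
    exact ⟨_, rfl⟩
  · rintro ⟨b, hb⟩
    obtain ⟨rfl, -⟩ := Sigma.mk.inj ((sigmaι_eq_iff _ _ _ _ _).1 hb)
    exact ⟨a, rfl⟩

theorem isPullback_sigmaMap (i : ι) : IsPullback (Sigma.ι A i) (f i) (Limits.Sigma.map f) (Sigma.ι B i) :=
  (IsOpenImmersion.isPullback _ _ _ _ (Sigma.ι_map _ _) (TopologicalSpace.Opens.ext (by
    simpa using (range_sigmaι_preimage f i).symm))).flip

/-- A property local on the target is stable under disjoint unions. -/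
theorem sigmaMap (P : MorphismProperty Scheme.{u}) [IsZariskiLocalAtTarget P] (hf : ∀ i, P (f i)) :
    P (Limits.Sigma.map f) := by
  rw [IsZariskiLocalAtTarget.iff_of_openCover (P := P) (sigmaOpenCover B)]
  intro i
  have h := hf i
  rw [← (isPullback_sigmaMap f i).isoPullback_hom_snd] at h
  exact (MorphismProperty.cancel_left_of_respectsIso P _ _).1 h

end Sigma

end Groth.EtFlcRep
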