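import Groth.Agent.EtFlcRep.Total
import Groth.Agent.S19554

/-!
# Sheaves with local trivializations by finitely many sections are represented by finite etale schemes
-/

set_option autoImplicit false
set_option backward.isDefEq.respectTransparency false
set_option linter.style.haveILetI false

universe u

open CategoryTheory CategoryTheory.Limits AlgebraicGeometry Opposite

namespace Groth.EtFlcRep.LocTriv

variable {S : Scheme.{u}} {F : S.Etaleᵒᵖ ⥤ Type (u + 1)} (L : LocTriv F)

/-- The pairs of a point of the total space and a point of the base over the same point of `S`. -/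
noncomputable def pairs : S.Etale :=
  Scheme.Etale.mk (pullback.fst (L.proj ≫ L.baseHom) L.baseHom ≫ L.proj ≫ L.baseHom)

/-- The first component. -/
noncomputable def pairsFst : L.pairs ⟶ L.totalEt :=
  MorphismProperty.Over.homMk (pullback.fst (L.proj ≫ L.baseHom) L.baseHom) rfl

/-- The second component. -/
noncomputable def pairsSnd : L.pairs ⟶ L.baseEt :=
  MorphismProperty.Over.homMk (pullback.snd (L.proj ≫ L.baseHom) L.baseHom) pullback.condition.symm

/-- A pair of points. -/
noncomputable def mkPair {T : S.Etale} (v : T ⟶ L.totalEt) (x : T ⟶ L.baseEt) : T ⟶ L.pairs :=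
  MorphismProperty.Over.homMk
    (pullback.lift v.left x.left ((MorphismProperty.Over.w v).trans (MorphismProperty.Over.w x).symm))
    ((pullback.lift_fst_assoc _ _ _ _).trans (MorphismProperty.Over.w v))

theorem mkPair_fst {T : S.Etale} (v : T ⟶ L.totalEt) (x : T ⟶ L.baseEt) :
    L.mkPair v x ≫ L.pairsFst = v :=
  MorphismProperty.Over.Hom.ext (pullback.lift_fst _ _ _)

theorem mkPair_snd {T : S.Etale} (v : T ⟶ L.totalEt) (x : T ⟶ L.baseEt) :
    L.mkPair v x ≫ L.pairsSnd = x :=
  MorphismProperty.Over.Hom.ext (pullback.lift_snd _ _ _)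

variable (σ₀ : F.obj (op L.totalEt)) (hσ₀ : ∀ i a, F.map (L.inTotal i a).op σ₀ = L.s i a)
  (v₀ : L.pairs ⟶ L.totalEt) (hv₀p : v₀ ≫ L.projEt = L.pairsSnd)
  (hv₀s : F.map v₀.op σ₀ = F.map L.pairsFst.op σ₀)

/-- Moving a point of the total space over another point of the base. -/
noncomputable def move {T : S.Etale} (v : T ⟶ L.totalEt) (x : T ⟶ L.baseEt) : T ⟶ L.totalEt :=
  L.mkPair v x ≫ v₀

include hv₀p in
theorem move_proj {T : S.Etale} (v : T ⟶ L.totalEt) (x : T ⟶ L.baseEt) :
    L.move v₀ v x ≫ L.projEt = x := by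
  rw [move, Category.assoc, hv₀p, mkPair_snd]

include hv₀s in
theorem move_section {T : S.Etale} (v : T ⟶ L.totalEt) (x : T ⟶ L.baseEt) :
    F.map (L.move v₀ v x).op σ₀ = F.map v.op σ₀ := by
  rw [move, op_comp, Functor.map_comp_apply, hv₀s, ← Functor.map_comp_apply, ← op_comp, mkPair_fst]

include hσ₀ hv₀p hv₀s in
theorem move_eq {T : S.Etale} (v : T ⟶ L.totalEt) (x : T ⟶ L.baseEt) (v' : T ⟶ L.totalEt)
    (hp : v' ≫ L.projEt = x) (hs : F.map v'.op σ₀ = F.map v.op σ₀) : L.move v₀ v x = v' :=
  L.unique σ₀ hσ₀ _ _ ((L.move_proj v₀ hv₀p v x).trans hp.symm)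
    ((L.move_section σ₀ v₀ hv₀s v x).trans hs.symm)

include hσ₀ hv₀p hv₀s in
theorem exists_act : ∃ A : Groth.Pi1Desc.Act L.proj L.baseHom,
    ∀ (T : S.Etale) (v : T ⟶ L.totalEt) (x : T ⟶ L.baseEt)
      (e : v.left ≫ L.proj ≫ L.baseHom = x.left ≫ L.baseHom),
      A.act v.left x.left e = (L.move v₀ v x).left := by
  let P₂ : S.Etale := Scheme.Etale.mk
    (pullback.fst (L.pairs.hom) L.baseHom ≫ L.pairs.hom)
  haveI : Etale L.pairs.hom := L.pairs.prop
  let a : P₂ ⟶ L.pairs := MorphismProperty.Over.homMk (pullback.fst L.pairs.hom L.baseHom) rfl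
  let y₀ : P₂ ⟶ L.baseEt :=
    MorphismProperty.Over.homMk (pullback.snd L.pairs.hom L.baseHom) pullback.condition.symm
  have E : L.move v₀ (a ≫ v₀) y₀ = L.move v₀ (a ≫ L.pairsFst) y₀ :=
    L.move_eq σ₀ hσ₀ v₀ hv₀p hv₀s _ _ _ (L.move_proj v₀ hv₀p _ _)
      ((L.move_section σ₀ v₀ hv₀s _ _).trans (by
        rw [op_comp, op_comp, Functor.map_comp_apply, Functor.map_comp_apply, hv₀s]))
  have hd : L.move v₀ (𝟙 L.totalEt) L.projEt = 𝟙 L.totalEt :=
    L.move_eq σ₀ hσ₀ v₀ hv₀p hv₀s _ _ _ (Category.id_comp _) rfl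
  have hp' : v₀.left ≫ L.proj = pullback.snd (L.proj ≫ L.baseHom) L.baseHom :=
    congrArg (fun φ => φ.left) hv₀p
  refine ⟨{ act := fun v x e => pullback.lift v x e ≫ v₀.left
            act_hom := fun v x e => ?_
            act_self := fun {T} v x e hx => ?_
            act_act := fun {T} v x y e e' e'' => ?_
            act_comp := fun g v x e e' => ?_ }, fun T v x e => rfl⟩
  · rw [Category.assoc]
    exact (congrArg (pullback.lift v x e ≫ ·) hp').trans (pullback.lift_snd _ _ _)
  · have hd' : (pullback.lift (𝟙 L.total) L.proj (Category.id_comp _) :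
        L.total ⟶ pullback (L.proj ≫ L.baseHom) L.baseHom) ≫ v₀.left = 𝟙 _ :=
      congrArg (fun φ => φ.left) hd
    have hl : pullback.lift v x e = v ≫ (pullback.lift (𝟙 L.total) L.proj (Category.id_comp _) :
        L.total ⟶ pullback (L.proj ≫ L.baseHom) L.baseHom) := by
      apply pullback.hom_ext
      · simp
      · simp [hx]
    rw [hl, Category.assoc, hd', Category.comp_id]
  · let m : T ⟶ P₂.left := pullback.lift (pullback.lift v x e) y (by
      show pullback.lift v x e ≫ pullback.fst _ _ ≫ L.proj ≫ L.baseHom = y ≫ L.baseHom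
      rw [pullback.lift_fst_assoc]
      exact e')
    have h := congrArg (fun φ => m ≫ φ.left) E
    have h1 : pullback.lift (pullback.lift v x e ≫ v₀.left) y e'' =
        m ≫ (L.mkPair (a ≫ v₀) y₀).left := by
      refine pullback.hom_ext ?_ ?_
      · rw [pullback.lift_fst, Category.assoc]
        refine ((congrArg (m ≫ ·) (pullback.lift_fst _ _ _)).trans ?_).symm
        show m ≫ pullback.fst L.pairs.hom L.baseHom ≫ v₀.left = _
        rw [pullback.lift_fst_assoc]
      · rw [pullback.lift_snd, Category.assoc]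
        refine ((congrArg (m ≫ ·) (pullback.lift_snd _ _ _)).trans ?_).symm
        exact pullback.lift_snd _ _ _
    have h2 : pullback.lift v y e' = m ≫ (L.mkPair (a ≫ L.pairsFst) y₀).left := by
      refine pullback.hom_ext ?_ ?_
      · rw [pullback.lift_fst, Category.assoc]
        refine ((congrArg (m ≫ ·) (pullback.lift_fst _ _ _)).trans ?_).symm
        show m ≫ pullback.fst L.pairs.hom L.baseHom ≫ pullback.fst _ _ = _
        rw [pullback.lift_fst_assoc, pullback.lift_fst]
      · rw [pullback.lift_snd, Category.assoc]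
        refine ((congrArg (m ≫ ·) (pullback.lift_snd _ _ _)).trans ?_).symm
        exact pullback.lift_snd _ _ _
    rw [h1, h2, Category.assoc, Category.assoc]
    exact h
  · rw [← Category.assoc]
    congr 1
    apply pullback.hom_ext <;> simp

end Groth.EtFlcRep.LocTriv

namespace Groth.EtFlcRep

/-- A sheaf with local trivializations by finitely many sections is represented by a finite etale
scheme. -/
theorem exists_finite_rep {S : Scheme.{u}} {F : S.Etaleᵒᵖ ⥤ Type (u + 1)}
    (hF : Presheaf.IsSheaf S.smallEtaleTopology F) (L : LocTriv F) :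
    ∃ (U : S.Etale) (_ : IsFinite U.hom), Nonempty (F ≅ rep U) := by
  obtain ⟨σ₀, hσ₀⟩ := L.exists_section hF
  obtain ⟨v₀, hv₀p, hv₀s⟩ := L.exists_point hF σ₀ hσ₀ L.pairsSnd (F.map L.pairsFst.op σ₀)
  obtain ⟨A, hA⟩ := L.exists_act σ₀ hσ₀ v₀ hv₀p hv₀s
  obtain ⟨U₁, π, q, hpb, hcompat⟩ := A.eff_of_isAffineHom_of_isCover
  haveI : Groth.Pi1Desc.IsCover L.baseHom := inferInstance
  haveI : Etale π := of_isPullback_isCover @Etale hpb (inferInstanceAs (Etale L.proj))
  have hfin : IsFinite π := of_isPullback_isCover @IsFinite hpb (inferInstanceAs (IsFinite L.proj))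
  let U : S.Etale := Scheme.Etale.mk π
  let qEt : L.totalEt ⟶ U := MorphismProperty.Over.homMk q hpb.w
  haveI : Surjective q := MorphismProperty.of_isPullback hpb.flip (inferInstanceAs (Surjective L.baseHom))
  have he : ∀ {T : S.Etale} (v₁ v₂ : T ⟶ L.totalEt),
      v₁.left ≫ L.proj ≫ L.baseHom = (v₂ ≫ L.projEt).left ≫ L.baseHom := fun v₁ v₂ =>
    (MorphismProperty.Over.w v₁).trans (MorphismProperty.Over.w (v₂ ≫ L.projEt)).symm
  have hc : ∀ {T : S.Etale} (v₁ v₂ : T ⟶ L.totalEt),
      L.move v₀ v₁ (v₂ ≫ L.projEt) ≫ qEt = v₁ ≫ qEt := fun {T} v₁ v₂ => by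
    apply MorphismProperty.Over.Hom.ext
    show (L.move v₀ v₁ (v₂ ≫ L.projEt)).left ≫ q = v₁.left ≫ q
    rw [← hA T v₁ (v₂ ≫ L.projEt) (he v₁ v₂)]
    exact hcompat _ _ _ _
  have key : ∀ {T : S.Etale} (v₁ v₂ : T ⟶ L.totalEt),
      F.map v₁.op σ₀ = F.map v₂.op σ₀ ↔ v₁ ≫ qEt = v₂ ≫ qEt := by
    intro T v₁ v₂
    constructor
    · intro h
      rw [← hc v₁ v₂, L.move_eq σ₀ hσ₀ v₀ hv₀p hv₀s v₁ _ v₂ rfl h.symm]
    · intro h
      have hm : L.move v₀ v₁ (v₂ ≫ L.projEt) = v₂ := by
        refine MorphismProperty.Over.Hom.ext (hpb.hom_ext ?_ ?_)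
        · exact congrArg (fun φ => φ.left) ((hc v₁ v₂).trans h)
        · exact congrArg (fun φ => φ.left) (L.move_proj v₀ hv₀p v₁ (v₂ ≫ L.projEt))
      rw [← L.move_section σ₀ v₀ hv₀s v₁ (v₂ ≫ L.projEt), hm]
  let P : S.Etaleᵒᵖ ⥤ Type (u + 1) :=
    { obj := fun T => ULift.{u + 1} (Quotient (Setoid.ker fun v : T.unop ⟶ L.totalEt => F.map v.op σ₀))
      map := fun g => TypeCat.ofHom fun x => ULift.up (Quotient.map (fun v => g.unop ≫ v)
        (fun v w (h : F.map v.op σ₀ = F.map w.op σ₀) => by
          show F.map (g.unop ≫ v).op σ₀ = F.map (g.unop ≫ w).op σ₀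
          rw [op_comp, op_comp, Functor.map_comp_apply, Functor.map_comp_apply, h]) x.down)
      map_id := fun T => by
        ext ⟨x⟩
        induction x using Quotient.ind with
        | _ v => simp
      map_comp := fun g g' => by
        ext ⟨x⟩
        induction x using Quotient.ind with
        | _ v => simp }
  let a : P ⟶ F :=
    { app := fun T => TypeCat.ofHom fun x =>
        Quotient.lift (fun v : T.unop ⟶ L.totalEt => F.map v.op σ₀) (fun _ _ h => h) x.down
      naturality := fun T T' g => by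
        ext ⟨x⟩
        induction x using Quotient.ind with
        | _ v => exact Functor.map_comp_apply F v.op g σ₀ }
  let b : P ⟶ rep U :=
    { app := fun T => TypeCat.ofHom fun x =>
        ULift.up (Quotient.lift (fun v : T.unop ⟶ L.totalEt => v ≫ qEt) (fun _ _ h => (key _ _).1 h) x.down)
      naturality := fun T T' g => by
        ext ⟨x⟩
        induction x using Quotient.ind with
        | _ v => exact congrArg ULift.up (Category.assoc g.unop v qEt) }
  haveI : Presheaf.IsLocallyInjective S.smallEtaleTopology a := by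
    refine ⟨fun {T} x y h => ?_⟩
    have : x = y := by
      obtain ⟨x⟩ := x
      obtain ⟨y⟩ := y
      induction x using Quotient.ind with
      | _ v => induction y using Quotient.ind with
        | _ w => exact ULift.ext _ _ (Quotient.sound h)
    subst this
    rw [Presheaf.equalizerSieve_self_eq_top]
    exact S.smallEtaleTopology.top_mem _
  haveI : Presheaf.IsLocallyInjective S.smallEtaleTopology b := by
    refine ⟨fun {T} x y h => ?_⟩
    have : x = y := by
      obtain ⟨x⟩ := x
      obtain ⟨y⟩ := y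
      induction x using Quotient.ind with
      | _ v => induction y using Quotient.ind with
        | _ w => exact ULift.ext _ _ (Quotient.sound ((key v w).2 (congrArg ULift.down h)))
    subst this
    rw [Presheaf.equalizerSieve_self_eq_top]
    exact S.smallEtaleTopology.top_mem _
  haveI : Presheaf.IsLocallySurjective S.smallEtaleTopology a := by
    refine ⟨fun {T} σ => ?_⟩
    rw [EtaleBase.mem_topology_iff]
    intro t
    haveI : Etale T.hom := T.prop
    let W : S.Etale := Scheme.Etale.mk (pullback.fst T.hom L.baseHom ≫ T.hom)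
    let k : W ⟶ T := MorphismProperty.Over.homMk (pullback.fst T.hom L.baseHom) rfl
    let x : W ⟶ L.baseEt :=
      MorphismProperty.Over.homMk (pullback.snd T.hom L.baseHom) pullback.condition.symm
    obtain ⟨v, -, hv⟩ := L.exists_point hF σ₀ hσ₀ x (F.map k.op σ)
    obtain ⟨w, hw⟩ := (MorphismProperty.pullback_fst (P := @Surjective) T.hom L.baseHom
      (inferInstanceAs (Surjective L.baseHom))).surj t
    exact ⟨W, k, w, ⟨ULift.up (Quotient.mk _ v), hv⟩, hw⟩
  haveI : Presheaf.IsLocallySurjective S.smallEtaleTopology b := by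
    refine ⟨fun {T} f => ?_⟩
    rw [EtaleBase.mem_topology_iff]
    intro t
    obtain ⟨f⟩ := f
    obtain ⟨w, hw⟩ := (MorphismProperty.pullback_fst (P := @Surjective) f.left qEt.left
      (inferInstanceAs (Surjective q))).surj t
    exact ⟨fib f qEt, fibFst f qEt, w,
      ⟨ULift.up (Quotient.mk _ (fibSnd f qEt)), congrArg ULift.up (fib_condition f qEt).symm⟩, hw⟩
  obtain ⟨e⟩ := Groth.Agent.S19554.nonempty_iso_of_locallyBijective (J := S.smallEtaleTopology)
    (F := (⟨F, hF⟩ : Sheaf S.smallEtaleTopology (Type (u + 1)))) (G := ⟨rep U, isSheaf_rep U⟩) a b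
  exact ⟨U, hfin, ⟨(sheafToPresheaf _ _).mapIso e⟩⟩

end Groth.EtFlcRep
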