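import Groth.Agent.EtFlcRep.Descend
import Groth.Agent.EtaleBase.LocConst
import Groth.Agent.EtaleBase.GmPic.Class

/-!
# Classes in `H¹` of finite locally constant sheaves are killed by finite etale covers
-/

set_option autoImplicit false
set_option backward.isDefEq.respectTransparency.types false
set_option linter.style.haveILetI false

universe u

open CategoryTheory CategoryTheory.Limits CategoryTheory.Abelian AlgebraicGeometry Opposite

namespace Groth.EtFlcRep

open Groth.EtaleBase (EtLimit.Resn.ev)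
open Groth.EtaleBase.GmPic (toTop hom_top_eq)

variable {X : Scheme.{u}}

/-- The restriction of a global section. -/
noncomputable abbrev resTop (Q : EtCoh.Ab X) (q : Q.obj.obj (op (EtCoh.top X))) (T : X.Etale) :
    Q.obj.obj (op T) :=
  Q.obj.map (toTop T).op q

theorem map_resTop (Q : EtCoh.Ab X) (q : Q.obj.obj (op (EtCoh.top X))) {T T' : X.Etale} (k : T' ⟶ T) :
    Q.obj.map k.op (resTop Q q T) = resTop Q q T' := by
  rw [resTop, ← Functor.map_comp_apply, ← op_comp, hom_top_eq (k ≫ toTop T) (toTop T')]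

variable {I Q : EtCoh.Ab X} (g : I ⟶ Q) (q : Q.obj.obj (op (EtCoh.top X)))

/-- The presheaf of lifts of a global section. -/
noncomputable def lifts : X.Etaleᵒᵖ ⥤ Type (u + 1) where
  obj T := { y : I.obj.obj T // g.hom.app T y = resTop Q q T.unop }
  map {T T'} k := TypeCat.ofHom fun y => ⟨I.obj.map k y.1, by
    rw [NatTrans.naturality_apply g.hom k y.1, y.2]
    exact map_resTop Q q k.unop⟩
  map_id T := by ext y; simp
  map_comp k k' := by ext y; simp

theorem isSheaf_lifts : Presheaf.IsSheaf X.smallEtaleTopology (lifts g q) := by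
  rw [isSheaf_iff_isSheaf_of_type]
  intro T R hR x hx
  have hI := ((isSheaf_iff_isSheaf_of_type _ _).1
    ((Presheaf.isSheaf_iff_isSheaf_forget _ I.obj (forget AddCommGrpCat.{u + 1})).1 I.property)) R hR
  obtain ⟨y, hy, huniq⟩ := hI (fun W k hk => (x k hk).1)
    (fun W₁ W₂ Z g₁ g₂ f₁ f₂ h₁ h₂ e => congrArg Subtype.val (hx g₁ g₂ h₁ h₂ e))
  have hQ := ((isSheaf_iff_isSheaf_of_type _ _).1
    ((Presheaf.isSheaf_iff_isSheaf_forget _ Q.obj (forget AddCommGrpCat.{u + 1})).1 Q.property)).isSeparated R hR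
  refine ⟨⟨y, hQ.ext fun W k hk => ?_⟩, fun W k hk => Subtype.ext (hy k hk),
    fun z hz => Subtype.ext (huniq z.1 fun W k hk => congrArg Subtype.val (hz k hk))⟩
  show Q.obj.map k.op (g.hom.app (op T) y) = Q.obj.map k.op (resTop Q q T)
  rw [← NatTrans.naturality_apply g.hom k.op y, map_resTop]
  exact (congrArg (g.hom.app (op W)) (hy k hk)).trans (x k hk).2

variable {F : EtCoh.Ab X} (f : F ⟶ I) (w : f ≫ g = 0) (hS : (ShortComplex.mk f g w).ShortExact)

include hS in
theorem exists_locTriv_lifts (hF : EtCoh.IsFiniteLocallyConstant F) :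
    ∃ L : LocTriv (lifts g q), ∀ i, 0 < L.n i := by
  have hex := fun Z => Groth.EtaleBase.EtLimit.sections_exact hS Z
  have hloc : Sheaf.IsLocallySurjective g :=
    (Sheaf.isLocallySurjective_iff_epi' (A := AddCommGrpCat.{u + 1}) g).2 hS.epi_g
  have H : ∀ x : X, ∃ (U : X.Etale) (_ : ∃ y, U.hom.base y = x) (M : Type) (_ : AddCommGroup M)
      (_ : Finite M) (s : ULift.{u + 1} M →+ F.obj.obj (op U)) (y : I.obj.obj (op U)),
      g.hom.app (op U) y = resTop Q q U ∧ Groth.EtaleBase.LocConst.StalkBij F U s := by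
    intro x
    obtain ⟨U, ⟨u, hu⟩, M, _, hM, s, hs⟩ := Groth.EtaleBase.LocConst.isFLC_iff.1 hF x
    have hcov := Presheaf.imageSieve_mem X.smallEtaleTopology g.hom (U := op U) (resTop Q q U)
    obtain ⟨W, k, w, ⟨y, hy⟩, hw⟩ := (EtaleBase.mem_topology_iff _).1 hcov u
    refine ⟨W, ⟨w, ?_⟩, M, _, hM, _, y, ?_, hs.res k⟩
    · rw [← MorphismProperty.Over.w k, Scheme.Hom.comp_apply]
      exact (congrArg U.hom.base hw).trans hu
    · rw [hy, map_resTop]
  choose U hU M hM hMf s y hy hs using H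
  haveI := hMf
  let e := fun x => (Finite.equivFin (ULift.{u + 1} (M x))).symm
  let sec : ∀ x, ULift.{u + 1} (M x) → (lifts g q).obj (op (U x)) := fun x a =>
    ⟨y x + f.hom.app (op (U x)) (s x a), by
      rw [map_add, hy, (hex (op (U x))).2.2 (s x a), add_zero]⟩
  refine ⟨{ κ := X, U := U, covers := fun x => ⟨x, hU x⟩
            n := fun x => Nat.card (ULift.{u + 1} (M x)), s := fun x a => sec x (e x a)
            inj := fun x T k a b he hab => ?_
            surj := fun x T k σ t => ?_ }, fun x => Nat.card_pos⟩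
  · refine ⟨fun t => hab ((e x).injective ?_)⟩
    have h1 : I.obj.map k.op (y x + f.hom.app (op (U x)) (s x (e x a))) =
        I.obj.map k.op (y x + f.hom.app (op (U x)) (s x (e x b))) := congrArg Subtype.val he
    rw [map_add, map_add, ← NatTrans.naturality_apply f.hom, ← NatTrans.naturality_apply f.hom,
      add_right_inj] at h1
    exact ((hs x).res k).injective_of_nonempty t ((hex (op T)).1 h1)
  · obtain ⟨τ, hτ⟩ := (hex (op T)).2.1 (σ.1 - I.obj.map k.op (y x)) (by
      rw [map_sub, sub_eq_zero]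
      exact σ.2.trans ((map_resTop Q q k).symm.trans
        ((congrArg (Q.obj.map k.op) (hy x)).symm.trans (NatTrans.naturality_apply g.hom k.op (y x)).symm)))
    obtain ⟨W, l, a, ⟨v, hv⟩, hl⟩ := (hs x).exists_nhd k τ t
    obtain ⟨a, rfl⟩ := (e x).surjective a
    refine ⟨W, l, v, a, hv, Subtype.ext ?_⟩
    show I.obj.map l.op σ.1 = I.obj.map (l ≫ k).op (y x + f.hom.app (op (U x)) (s x (e x a)))
    rw [map_add, ← NatTrans.naturality_apply f.hom, ← hl, NatTrans.naturality_apply f.hom]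
    change I.obj.map l.op σ.1 = _ + I.obj.map l.op (f.hom.app (op T) τ)
    rw [hτ, map_sub, op_comp, Functor.map_comp_apply]
    abel

include hS in
theorem exists_finite_etale_lift (hF : EtCoh.IsFiniteLocallyConstant F) :
    ∃ (U : X.Etale) (y : I.obj.obj (op U)), IsFinite U.hom ∧ Surjective U.hom ∧
      g.hom.app (op U) y = resTop Q q U := by
  obtain ⟨L, hL⟩ := exists_locTriv_lifts g q f w hS hF
  obtain ⟨U, hU, ⟨r⟩⟩ := exists_finite_rep (isSheaf_lifts g q) L
  let y := r.inv.app (op U) (ULift.up (𝟙 U))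
  refine ⟨U, y.1, hU, ⟨fun x => ?_⟩, y.2⟩
  obtain ⟨i, u, hu⟩ := L.covers x
  let φ : L.U i ⟶ U := (r.hom.app (op (L.U i)) (L.s i ⟨0, hL i⟩)).down
  exact ⟨φ.left.base u, by rw [← Scheme.Hom.comp_apply, MorphismProperty.Over.w φ]; exact hu⟩

omit hS in
theorem Hpull_eq_zero (hS : (ShortComplex.mk f g w).ShortExact) (z : EtCoh.const X ℤ ⟶ Q) (W : X.Etale)
    [PreservesFiniteLimits (EtCoh.pull W.hom)] (y : I.obj.obj (op W))
    (hy : g.hom.app (op W) y = resTop Q (Groth.EtaleBase.EtLimit.Resn.ev Q z) W) :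
    EtCore.Hpull W.hom F 1 ((Ext.mk₀ z).comp hS.extClass (zero_add 1)) = 0 := by
  open Groth.EtaleBase in
  haveI : Etale W.hom := W.prop
  let w' : EtCoh.const W.left ℤ ⟶ (EtCoh.pull W.hom).obj I :=
    (EtLimit.Resn.ev _).symm (EtLimit.sec W.hom W (𝟙 W.left) (Category.id_comp _) I y)
  have hw' : w' ≫ (EtCoh.pull W.hom).map g =
      (EtCore.pullConst W.hom ℤ).inv ≫ (EtCoh.pull W.hom).map z := by
    refine (EtLimit.Resn.ev _).injective ?_
    rw [EtLimit.Resn.ev_comp]
    simp only [w', AddEquiv.apply_symm_apply]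
    refine (EtLimit.sec_map W.hom W (𝟙 W.left) (Category.id_comp _) g y).symm.trans ?_
    refine (congrArg _ hy).trans ?_
    refine (EtLimit.sec_res W.hom (EtCoh.top X) W.hom (Category.comp_id _)
      (toTop W) (𝟙 W.left) (Category.id_comp _) (Category.id_comp _) Q _).trans ?_
    have e := EtLimit.Resn.ev_pull W.hom z (𝟙 _)
    rw [Category.comp_id, Adjunction.homEquiv_id] at e
    rw [e]
    refine congrArg (fun a => ((EtCoh.pull W.hom).obj Q).obj.map (Quiver.Hom.op a)
      (((EtCoh.pullPushAdj W.hom).unit.app Q).hom.app _ (EtLimit.Resn.ev Q z))) ?_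
    exact (EtCore.bcTopIsTerminal W.hom).hom_ext _ _
  haveI : (EtCoh.pull W.hom).Additive := Functor.additive_of_preserves_binary_products _
  have hS' := hS.map_of_exact (EtCoh.pull W.hom)
  show (Ext.mk₀ (EtCore.pullConst W.hom ℤ).inv).comp
      (((Ext.mk₀ z).comp hS.extClass (zero_add 1)).mapExactFunctor (EtCoh.pull W.hom)) (zero_add 1) = 0
  rw [ExtAdj.mapExt_comp_extClass (EtCoh.pull W.hom) hS (Ext.mk₀ z), Ext.mapExactFunctor_mk₀]
  refine (Ext.mk₀_comp_mk₀_assoc _ _ _).trans ?_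
  rw [← hw']
  exact (Ext.mk₀_comp_mk₀_assoc _ _ _).symm.trans ((congrArg (fun t => (Ext.mk₀ w').comp t (zero_add 1)) hS'.comp_extClass).trans (Ext.comp_zero _ _ _ _ _))

/-- A class in `H¹` of a finite locally constant sheaf vanishes on a finite etale cover. -/
theorem exists_Hpull_eq_zero (hF : EtCoh.IsFiniteLocallyConstant F) (c : EtCoh.H X F 1) :
    ∃ (Y : Scheme.{u}) (p : Y ⟶ X), IsFinite p ∧ Etale p ∧ Surjective p ∧
      ∀ [PreservesFiniteLimits (EtCoh.pull p)], EtCore.Hpull p F 1 c = 0 := by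
  let f := Injective.ι F
  have hS : (ShortComplex.mk f (cokernel.π f) (cokernel.condition f)).ShortExact :=
    { exact := ShortComplex.exact_of_g_is_cokernel _ (cokernelIsCokernel f) }
  have h0 : c.comp (Ext.mk₀ f) (add_zero 1) = 0 :=
    (Groth.EtaleBase.InjCoh.H_injective (Injective.under F) 1 le_rfl).elim _ _
  obtain ⟨z, hz⟩ := Ext.covariant_sequence_exact₁ _ hS c h0 (zero_add 1)
  obtain ⟨z, rfl⟩ := (Ext.mk₀_bijective _ _).2 z
  obtain ⟨U, y, hfin, hsurj, hy⟩ := exists_finite_etale_lift (cokernel.π f)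
    (Groth.EtaleBase.EtLimit.Resn.ev _ z) f (cokernel.condition f) hS hF
  exact ⟨U.left, U.hom, hfin, U.prop, hsurj, fun {_} => hz ▸ Hpull_eq_zero _ f _ hS z U y hy⟩

end Groth.EtFlcRep
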