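import Groth.Agent.EtFlcRep.Basic

/-!
# The finite etale cover of a trivializing covering attached to local sections of a sheaf
-/

set_option autoImplicit false
set_option backward.isDefEq.respectTransparency false
set_option linter.style.haveILetI false

universe u

open CategoryTheory CategoryTheory.Limits AlgebraicGeometry Opposite

namespace Groth.EtFlcRep

variable {S : Scheme.{u}}

/-- Local trivializations of a presheaf of sets by finitely many sections. -/
structure LocTriv (F : S.Etaleᵒᵖ ⥤ Type (u + 1)) where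
  /-- the index type -/
  κ : Type u
  /-- the covering -/
  U : κ → S.Etale
  covers : ∀ x : S, ∃ (i : κ) (y : (U i).left), (U i).hom.base y = x
  /-- the numbers of sections -/
  n : κ → ℕ
  /-- the sections -/
  s : ∀ i, Fin (n i) → F.obj (op (U i))
  inj : ∀ (i : κ) (T : S.Etale) (g : T ⟶ U i) (a b : Fin (n i)),
    F.map g.op (s i a) = F.map g.op (s i b) → a ≠ b → IsEmpty T.left
  surj : ∀ (i : κ) (T : S.Etale) (g : T ⟶ U i) (σ : F.obj (op T)) (t : T.left),
    ∃ (W : S.Etale) (k : W ⟶ T) (w : W.left) (a : Fin (n i)),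
      k.left.base w = t ∧ F.map k.op σ = F.map (k ≫ g).op (s i a)

namespace LocTriv

variable {F : S.Etaleᵒᵖ ⥤ Type (u + 1)} (L : LocTriv F)

/-- The sheets over a member of the covering. -/
abbrev sheets (i : L.κ) : ULift.{u} (Fin (L.n i)) → Scheme.{u} := fun _ => (L.U i).left

/-- The components of the total space. -/
noncomputable abbrev comp (i : L.κ) : Scheme.{u} := ∐ L.sheets i

/-- The projection of a component. -/
noncomputable abbrev compHom (i : L.κ) : L.comp i ⟶ (L.U i).left :=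
  Sigma.desc fun _ => 𝟙 (L.U i).left

/-- The disjoint union of the covering. -/
noncomputable abbrev base : Scheme.{u} := ∐ fun i => (L.U i).left

/-- The total space. -/
noncomputable abbrev total : Scheme.{u} := ∐ L.comp

/-- Its projection. -/
noncomputable def proj : L.total ⟶ L.base := Limits.Sigma.map L.compHom

/-- The covering map. -/
noncomputable def baseHom : L.base ⟶ S := Sigma.desc fun i => (L.U i).hom

instance etale_baseHom : Etale L.baseHom :=
  IsZariskiLocalAtSource.sigmaDesc fun i => (L.U i).prop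

instance surjective_baseHom : Surjective L.baseHom := ⟨fun x => by
  obtain ⟨i, y, hy⟩ := L.covers x
  refine ⟨Sigma.ι (fun i => (L.U i).left) i y, ?_⟩
  rw [← Scheme.Hom.comp_apply, baseHom, Sigma.ι_desc]
  exact hy⟩

instance isFinite_proj : IsFinite L.proj :=
  sigmaMap _ @IsFinite fun i => Groth.Pi1Quot.isFinite_sigmaDesc _

instance etale_proj : Etale L.proj :=
  sigmaMap _ @Etale fun i => IsZariskiLocalAtSource.sigmaDesc fun _ => inferInstance

/-- The disjoint union of the covering, as an etale scheme. -/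
noncomputable def baseEt : S.Etale := Scheme.Etale.mk L.baseHom

/-- The total space, as an etale scheme. -/
noncomputable def totalEt : S.Etale := Scheme.Etale.mk (L.proj ≫ L.baseHom)

/-- The projection, as a morphism of etale schemes. -/
noncomputable def projEt : L.totalEt ⟶ L.baseEt := MorphismProperty.Over.homMk L.proj rfl

/-- The inclusion of a member of the covering. -/
noncomputable def inBase (i : L.κ) : L.U i ⟶ L.baseEt :=
  MorphismProperty.Over.homMk (Sigma.ι (fun i => (L.U i).left) i) (Sigma.ι_desc _ _)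

/-- The inclusion of a sheet. -/
noncomputable def inTotal (i : L.κ) (a : Fin (L.n i)) : L.U i ⟶ L.totalEt :=
  MorphismProperty.Over.homMk (Sigma.ι (L.sheets i) ⟨a⟩ ≫ Sigma.ι L.comp i) (by
    show (Sigma.ι (L.sheets i) ⟨a⟩ ≫ Sigma.ι L.comp i) ≫ L.proj ≫ L.baseHom = (L.U i).hom
    simp [proj, baseHom])

theorem inTotal_proj (i : L.κ) (a : Fin (L.n i)) : L.inTotal i a ≫ L.projEt = L.inBase i := by
  apply MorphismProperty.Over.Hom.ext
  show (Sigma.ι (L.sheets i) ⟨a⟩ ≫ Sigma.ι L.comp i) ≫ L.proj = Sigma.ι (fun i => (L.U i).left) i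
  simp [proj]

instance isOpenImmersion_inBase (i : L.κ) : IsOpenImmersion (L.inBase i).left :=
  inferInstanceAs (IsOpenImmersion (Sigma.ι (fun i => (L.U i).left) i))

instance isOpenImmersion_inTotal (i : L.κ) (a : Fin (L.n i)) : IsOpenImmersion (L.inTotal i a).left :=
  inferInstanceAs (IsOpenImmersion (Sigma.ι (L.sheets i) ⟨a⟩ ≫ Sigma.ι L.comp i))

theorem exists_inTotal (p : L.totalEt.left) :
    ∃ (i : L.κ) (a : Fin (L.n i)) (y : (L.U i).left), (L.inTotal i a).left.base y = p := by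
  obtain ⟨⟨i, q⟩, rfl⟩ := (sigmaMk L.comp).surjective p
  obtain ⟨⟨⟨a⟩, y⟩, rfl⟩ := (sigmaMk (L.sheets i)).surjective q
  exact ⟨i, a, y, by rw [sigmaMk_mk, sigmaMk_mk]; rfl⟩

theorem exists_inBase (p : L.baseEt.left) :
    ∃ (i : L.κ) (y : (L.U i).left), (L.inBase i).left.base y = p := by
  obtain ⟨⟨i, y⟩, rfl⟩ := (sigmaMk fun i => (L.U i).left).surjective p
  exact ⟨i, y, by rw [sigmaMk_mk]; rfl⟩

theorem inBase_index {i j : L.κ} (y : (L.U i).left) (z : (L.U j).left)
    (h : (L.inBase i).left.base y = (L.inBase j).left.base z) : i = j :=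
  (Sigma.mk.inj ((sigmaι_eq_iff (fun i => (L.U i).left) i j y z).1 h)).1

theorem inTotal_index {i : L.κ} {a b : Fin (L.n i)} (y z : (L.U i).left)
    (h : (L.inTotal i a).left.base y = (L.inTotal i b).left.base z) : a = b := by
  have h' : Sigma.ι (L.sheets i) ⟨a⟩ y = Sigma.ι (L.sheets i) ⟨b⟩ z :=
    (Sigma.ι L.comp i).isOpenEmbedding.injective h
  exact congrArg ULift.down (Sigma.mk.inj ((sigmaι_eq_iff _ _ _ _ _).1 h')).1

theorem mono_inBase {T : S.Etale} {i : L.κ} (g g' : T ⟶ L.U i)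
    (h : g ≫ L.inBase i = g' ≫ L.inBase i) : g = g' :=
  MorphismProperty.Over.Hom.ext ((cancel_mono (L.inBase i).left).1 (congrArg (fun φ => φ.left) h))

variable (hF : Presheaf.IsSheaf S.smallEtaleTopology F)

include hF in
theorem exists_section :
    ∃ σ : F.obj (op L.totalEt), ∀ i a, F.map (L.inTotal i a).op σ = L.s i a := by
  obtain ⟨σ, hσ⟩ := glue hF (κ := Σ i, ULift.{u} (Fin (L.n i))) (fun p => L.U p.1)
    (fun p => L.inTotal p.1 p.2.down) (fun t => by
      obtain ⟨i, a, y, hy⟩ := L.exists_inTotal t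
      exact ⟨⟨i, ⟨a⟩⟩, y, hy⟩)
    (fun p => L.s p.1 p.2.down) (by
      rintro ⟨i, ⟨a⟩⟩ ⟨j, ⟨b⟩⟩ Z gi gj e
      cases isEmpty_or_nonempty Z.left with
      | inl h => exact (subsingleton_of_isEmpty hF Z).elim _ _
      | inr h =>
        obtain ⟨z⟩ := h
        have hz := congrArg (fun φ => φ.left.base z) e
        have hb := congrArg (fun x => L.projEt.left.base x) hz
        obtain rfl : i = j := L.inBase_index (gi.left.base z) (gj.left.base z) (by
          rw [← L.inTotal_proj i a, ← L.inTotal_proj j b]; exact hb)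
        obtain rfl : a = b := L.inTotal_index _ _ hz
        have e' := congrArg (· ≫ L.projEt) e
        simp only [Category.assoc, inTotal_proj] at e'
        rw [L.mono_inBase gi gj e'])
  exact ⟨σ, fun i a => hσ ⟨i, ⟨a⟩⟩⟩

variable (σ₀ : F.obj (op L.totalEt)) (hσ₀ : ∀ i a, F.map (L.inTotal i a).op σ₀ = L.s i a)

include hσ₀ in
/-- A point of the total space is determined by its image in the base and its section. -/
theorem unique {T : S.Etale} (v₁ v₂ : T ⟶ L.totalEt) (hp : v₁ ≫ L.projEt = v₂ ≫ L.projEt)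
    (hs : F.map v₁.op σ₀ = F.map v₂.op σ₀) : v₁ = v₂ := by
  refine hom_ext_local v₁ v₂ fun t => ?_
  obtain ⟨i, a, y₁, hy₁⟩ := L.exists_inTotal (v₁.left.base t)
  obtain ⟨j, b, y₂, hy₂⟩ := L.exists_inTotal (v₂.left.base t)
  have hb : (L.inBase i).left.base y₁ = (L.inBase j).left.base y₂ := by
    rw [← L.inTotal_proj i a, ← L.inTotal_proj j b]
    show L.projEt.left.base ((L.inTotal i a).left.base y₁) = L.projEt.left.base ((L.inTotal j b).left.base y₂)
    rw [hy₁, hy₂]
    exact congrArg (fun φ => φ.left.base t) hp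
  obtain rfl := L.inBase_index _ _ hb
  let O : T.left.Opens := v₁.left ⁻¹ᵁ (L.inTotal i a).left.opensRange ⊓
    v₂.left ⁻¹ᵁ (L.inTotal i b).left.opensRange
  obtain ⟨g₁, hg₁⟩ := exists_lift (L.inTotal i a) (opnHom T O ≫ v₁) (by
    rintro _ ⟨x, rfl⟩; exact x.2.1)
  obtain ⟨g₂, hg₂⟩ := exists_lift (L.inTotal i b) (opnHom T O ≫ v₂) (by
    rintro _ ⟨x, rfl⟩; exact x.2.2)
  have e : g₁ = g₂ := by
    apply L.mono_inBase
    rw [← L.inTotal_proj i a]
    conv_rhs => rw [L.inTotal_proj i a, ← L.inTotal_proj i b]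
    rw [← Category.assoc, hg₁, ← Category.assoc, hg₂, Category.assoc, hp, Category.assoc]
  subst e
  have ho : t ∈ O := ⟨⟨y₁, hy₁⟩, ⟨y₂, hy₂⟩⟩
  refine ⟨opn T O, opnHom T O, ⟨t, ho⟩, rfl, ?_⟩
  by_cases hab : a = b
  · subst hab
    rw [← hg₁, ← hg₂]
  · refine absurd (L.inj i _ g₁ a b ?_ hab) (not_isEmpty_iff.2 ⟨(⟨t, ho⟩ : O.toScheme)⟩)
    rw [← hσ₀ i a, ← hσ₀ i b, ← Functor.map_comp_apply, ← Functor.map_comp_apply, ← op_comp, ← op_comp,
      hg₁, hg₂, op_comp, Functor.map_comp_apply, hs, op_comp, Functor.map_comp_apply]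

include hF hσ₀ in
/-- Every section is induced by a point of the total space over any map to the base. -/
theorem exists_point {T : S.Etale} (x : T ⟶ L.baseEt) (σ : F.obj (op T)) :
    ∃ v : T ⟶ L.totalEt, v ≫ L.projEt = x ∧ F.map v.op σ₀ = σ := by
  have H : ∀ t : T.left, ∃ (W : S.Etale) (k : W ⟶ T) (v : W ⟶ L.totalEt) (w : W.left),
      k.left.base w = t ∧ v ≫ L.projEt = k ≫ x ∧ F.map v.op σ₀ = F.map k.op σ := fun t => by
    obtain ⟨i, y, hy⟩ := L.exists_inBase (x.left.base t)
    let O : T.left.Opens := x.left ⁻¹ᵁ (L.inBase i).left.opensRange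
    obtain ⟨g, hg⟩ := exists_lift (L.inBase i) (opnHom T O ≫ x) (by rintro _ ⟨z, rfl⟩; exact z.2)
    obtain ⟨W, k, w, a, hw, he⟩ := L.surj i _ g (F.map (opnHom T O).op σ) ⟨t, ⟨y, hy⟩⟩
    refine ⟨W, k ≫ opnHom T O, k ≫ g ≫ L.inTotal i a, w, congrArg Subtype.val hw, ?_, ?_⟩
    · rw [Category.assoc, Category.assoc, inTotal_proj, hg, Category.assoc]
    · rw [← Category.assoc, op_comp, Functor.map_comp_apply, hσ₀, op_comp, op_comp,
        Functor.map_comp_apply (f := (opnHom T O).op), he, op_comp, Functor.map_comp_apply]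
  choose W k v w hw hp hs using H
  obtain ⟨⟨z⟩, hz⟩ := glue (isSheaf_rep L.totalEt) W k (fun t => ⟨t, w t, hw t⟩)
    (fun t => ULift.up (v t)) (fun i j Z gi gj e => congrArg ULift.up (L.unique σ₀ hσ₀ _ _ (by
      show (gi ≫ v i) ≫ L.projEt = (gj ≫ v j) ≫ L.projEt
      rw [Category.assoc, Category.assoc, hp, hp, reassoc_of% e]) (by
      show F.map (gi ≫ v i).op σ₀ = F.map (gj ≫ v j).op σ₀
      rw [op_comp, op_comp, Functor.map_comp_apply, Functor.map_comp_apply, hs, hs,
        ← Functor.map_comp_apply, ← Functor.map_comp_apply, ← op_comp, ← op_comp, e])))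
  have hz' : ∀ t, k t ≫ z = v t := fun t => congrArg ULift.down (hz t)
  refine ⟨z, hom_ext_local _ _ fun t => ⟨W t, k t, w t, hw t, ?_⟩,
    sep hF _ _ fun t => ⟨W t, k t, w t, hw t, ?_⟩⟩
  · rw [← Category.assoc, hz', hp]
  · rw [← Functor.map_comp_apply, ← op_comp, hz', hs]

end LocTriv

end Groth.EtFlcRep
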